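/-
Two elements of a subgroup generating it.
-/
import Mathlib

set_option autoImplicit false

namespace CfsgLib.Chev.TwoGen

universe w

/-- A subgroup contained in the closure of two of its elements is generated by two elements. -/
theorem two_gen_of_le {Γ : Type w} [Group Γ] {G : Subgroup Γ} {a b : Γ} (ha : a ∈ G) (hb : b ∈ G)
    (h : G ≤ Subgroup.closure {a, b}) : ∃ a b : ↥G, Subgroup.closure ({a, b} : Set ↥G) = ⊤ := by
  refine ⟨⟨a, ha⟩, ⟨b, hb⟩, eq_top_iff.2 fun x _ => ?_⟩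
  rw [← Subgroup.mem_map_iff_mem (f := G.subtype) G.subtype_injective, MonoidHom.map_closure]
  simpa [Set.image_pair] using h x.2

/-- A torus element times a commuting involution, the torus element being of odd order. -/
theorem split_of_commute {Γ : Type w} [Group Γ] {S : Subgroup Γ} {h x : Γ} (hc : Commute h x)
    (hx : x * x = 1) {n : ℕ} (hn : Odd n) (hh : h ^ n = 1) (hm : h * x ∈ S) : h ∈ S ∧ x ∈ S := by
  obtain ⟨k, rfl⟩ := hn
  have e : (h * x) ^ (2 * k + 1) = x := by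
    rw [hc.mul_pow, hh, one_mul, pow_succ, pow_mul, sq, hx, one_pow, one_mul]
  have hxS : x ∈ S := e ▸ pow_mem hm _
  refine ⟨?_, hxS⟩
  have := mul_mem hm (inv_mem hxS)
  rwa [mul_inv_cancel_right] at this

/-- A product of commuting elements of coprime orders. -/
theorem split_coprime {Γ : Type w} [Group Γ] {S : Subgroup Γ} {h x : Γ} (hc : Commute h x) {a b : ℕ}
    (hab : Nat.Coprime a b) (hh : h ^ a = 1) (hx : x ^ b = 1) (hm : h * x ∈ S) : h ∈ S ∧ x ∈ S := by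
  obtain ⟨u, hu⟩ : ∃ u : ℤ, (a : ℤ) * u ≡ 1 [ZMOD b] := ⟨a.gcdA b, by
    rw [Int.modEq_iff_dvd, ← Nat.cast_one, ← hab, Nat.gcd_eq_gcd_ab]
    exact ⟨a.gcdB b, by ring⟩⟩
  obtain ⟨v, hv⟩ := Int.modEq_iff_dvd.1 hu
  have e : (h * x) ^ ((a : ℤ) * u) = x := by
    rw [hc.mul_zpow, zpow_mul, zpow_natCast, hh, one_zpow, one_mul,
      show (a : ℤ) * u = 1 - b * v by linarith, zpow_sub, zpow_one, zpow_mul, zpow_natCast, hx, one_zpow,
      inv_one, mul_one]
  have hxS : x ∈ S := e ▸ zpow_mem hm _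
  refine ⟨?_, hxS⟩
  have := mul_mem hm (inv_mem hxS)
  rwa [mul_inv_cancel_right] at this

/-- The commutator of a torus element with a conjugate of another one. -/
theorem comm_conj {Γ : Type w} [Group Γ] {h h' x : Γ} (hc : Commute h h') :
    h * (x * h' * x⁻¹) * h⁻¹ * (x * h' * x⁻¹)⁻¹ =
      h * (x * (h' * x * h'⁻¹)⁻¹) * h⁻¹ * (x * (h' * x * h'⁻¹)⁻¹)⁻¹ := by
  have e : x * h' * x⁻¹ = x * (h' * x * h'⁻¹)⁻¹ * h' := by group
  rw [e]
  generalize x * (h' * x * h'⁻¹)⁻¹ = g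
  have e' : h' * h⁻¹ = h⁻¹ * h' := (hc.inv_left).eq.symm
  calc h * (g * h') * h⁻¹ * (g * h')⁻¹ = h * g * (h' * h⁻¹) * (h'⁻¹ * g⁻¹) := by group
    _ = h * g * (h⁻¹ * h') * (h'⁻¹ * g⁻¹) := by rw [e']
    _ = _ := by group

end CfsgLib.Chev.TwoGen
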