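/-
The small Ree groups are generated by two elements: a torus element and a root element times an involution.
-/
import Cfsg.Agent.Lib.Recognition.Ree.Laws
import Cfsg.Agent.Lib.Classical.UnitTwoGen.Gen

set_option autoImplicit false
set_option maxRecDepth 20000

namespace CfsgLib.Chev.TwoGen

open Cfsg.Lie CfsgLib.Chev CfsgLib.Chev.TwG2 CfsgLib.Recognition.ReeU

universe v

variable {K : Type v} [Field K] [Fintype K] {m : ℕ} (C : Ctx K m)

/-- The middle coordinate of the products in the two orders. -/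
theorem mid_coord (t u v t' u' v' : K) :
    ∃ U V, el C t u v * el C t' u' v' = el C (t + t') U V ∧
      C.f U = C.f u + C.f u' - C.f t * t' := by
  have hF := DataG2.facts
  have h1 : ∀ a b c : K, C.cl a b c = xU chevG2 g2a (C.f a) *
      C.nf a (C.f a * a + C.f b) (C.f a ^ 2 * a + C.f c) b c := fun a b c => by
    rw [C.cl_val, Ctx.nf, mul_assoc]
  obtain ⟨F₁, G₁, e1⟩ := C.nf_swap (C.f t') t (C.f t * t + C.f u) (C.f t ^ 2 * t + C.f v) u v
  obtain ⟨G₂, e2⟩ := C.nf_mul t (C.f t' * t + (C.f t * t + C.f u))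
    (C.f t' ^ 2 * t - C.f t' * (C.f t * t + C.f u) + (C.f t ^ 2 * t + C.f v)) F₁ G₁
    t' (C.f t' * t' + C.f u') (C.f t' ^ 2 * t' + C.f v') u' v'
  obtain ⟨U, V, e⟩ := mul_mem_posU C t u v t' u' v'
  refine ⟨U, V, e, ?_⟩
  have e' : C.cl t u v * C.cl t' u' v' = C.cl (t + t') U V := congrArg Subtype.val e
  rw [h1 t, h1 t', show ∀ a b c d : GL chevG2.Idx K, a * b * (c * d) = a * (b * c) * d from
    fun a b c d => by group, e1, ← mul_assoc (xU chevG2 g2a (C.f t)), hF.xU_add (by decide),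
    mul_assoc, e2, C.cl_val (t + t')] at e'
  have hl := hF.coords_unique C.sig.hC coords
    (ts := [C.f t + C.f t', t + t', C.f t' * t + (C.f t * t + C.f u) + (C.f t' * t' + C.f u'),
      C.f t' ^ 2 * t - C.f t' * (C.f t * t + C.f u) + (C.f t ^ 2 * t + C.f v) + (C.f t' ^ 2 * t' + C.f v'),
      F₁ + u', G₂])
    (ts' := [C.f (t + t'), t + t', C.f (t + t') * (t + t') + C.f U,
      C.f (t + t') ^ 2 * (t + t') + C.f V, U, V]) rfl rfl
    (by simpa [Ctx.nf, wU, Cl.roots, posC, mul_assoc] using e')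
  simp only [List.cons.injEq, and_true] at hl
  obtain ⟨-, -, hX, -, -, -⟩ := hl
  rw [map_add] at hX
  linear_combination -hX

include C in
theorem ree_two_generated (hm : 1 ≤ m) :
    ∃ a b : ↥(twistedG2 K (3 ^ m)), Subgroup.closure ({a, b} : Set ↥(twistedG2 K (3 ^ m))) = ⊤ := by
  classical
  have hF := DataG2.facts
  set o : Fin spec.length := ⟨0, by decide⟩ with ho
  set n : ↥(twistedG2 K (3 ^ m)) := ⟨C.sys.nO o, C.sys.nO_mem o⟩ with hn
  obtain ⟨lam, hlam⟩ := IsCyclic.exists_generator (α := Kˣ)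
  obtain ⟨b, hb⟩ := (chi_bijective C).2 lam
  have hord : orderOf lam = Fintype.card K - 1 := by
    rw [orderOf_eq_card_of_forall_mem_zpowers hlam, Nat.card_eq_fintype_card, Fintype.card_units]
  have h27 : 27 ≤ Fintype.card K := by
    rw [C.card]
    have h : 3 ^ 3 ≤ 3 ^ (2 * m + 1) := Nat.pow_le_pow_right (by norm_num) (by omega)
    omega
  have hsmall : ∀ r, 2 ≤ r → r * r ≤ Fintype.card K → lam ^ (2 * (r - 1)) ≠ 1 := by
    intro r hr hrr h
    have h1 := orderOf_dvd_of_pow_eq_one h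
    rw [hord] at h1
    have h2 := Nat.le_of_dvd (by omega) h1
    rcases Nat.lt_or_ge r 3 with h3 | h3
    · omega
    · have := Nat.mul_le_mul_right r h3
      omega
  have hlam1 : lam ≠ 1 := fun h => hsmall 2 le_rfl (by omega) (by rw [h, one_pow])
  set h := tor C b with hh
  set x := el C 1 0 0 with hx
  refine ⟨h, x * n, eq_top_iff.2 ?_⟩
  set H := Subgroup.closure ({h, x * n} : Set ↥(twistedG2 K (3 ^ m))) with hH
  have hhH : h ∈ H := Subgroup.subset_closure (by simp)
  have hbH : x * n ∈ H := Subgroup.subset_closure (by simp)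
  -- the conjugate of the torus element
  obtain ⟨b', hb'⟩ : ∃ b', n * h * n⁻¹ = tor C b' := by
    have h1 : C.sys.nO o * C.par b * (C.sys.nO o)⁻¹ ∈
        (chevG2.diagonalSubgroup K ⊓ twistedG2 K (3 ^ m) : Subgroup _) :=
      ⟨hF.conj_diagonal (C.sys.nO_monomial o) (C.range_le ⟨b, rfl⟩).1, (n * h * n⁻¹).2⟩
    obtain ⟨b', e⟩ := C.mem_par_iff.1 h1
    exact ⟨b', Subtype.ext e⟩
  have hb'1 : C.chi b' ≠ 1 := fun e => hlam1 (by
    have e1 : b' = 1 := (chi_bijective C).1 (e.trans (by simp [Ctx.chi]))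
    rw [e1, map_one, mul_inv_eq_one, mul_eq_left] at hb'
    have : b = 1 := C.par_injective (by
      rw [map_one]; exact congrArg Subtype.val hb')
    rw [← hb, this]; simp [Ctx.chi])
  have hcomm : h * tor C b' = tor C b' * h := by rw [hh, ← map_mul, ← map_mul, mul_comm]
  have hcK : x * (n * h * n⁻¹) * x⁻¹ ∈ H := by
    rw [show x * (n * h * n⁻¹) * x⁻¹ = (x * n) * h * (x * n)⁻¹ by group]
    exact mul_mem (mul_mem hbH hhH) (inv_mem hbH)
  -- a class element in the subgroup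
  obtain ⟨t0, u0, v0, ht0, hg0⟩ : ∃ t u v, t ≠ 0 ∧ el C t u v ∈ H := by
    have e1 : tor C b' * x * (tor C b')⁻¹ = el C (C.chi b' : K) 0 0 := by
      rw [hx, conj_el, mul_one, mul_zero, mul_zero]
    obtain ⟨I, J, e2⟩ := inv_el C (C.chi b' : K) 0 0
    obtain ⟨U, V, e3⟩ := mul_mem_posU C 1 0 0 (-(C.chi b' : K)) I J
    rw [hb', show x * tor C b' * x⁻¹ = x * (tor C b' * x * (tor C b')⁻¹)⁻¹ * tor C b' by group, e1, e2,
      hx, e3] at hcK
    have hd : h * el C (1 + -(C.chi b' : K)) U V * h⁻¹ * (el C (1 + -(C.chi b' : K)) U V)⁻¹ ∈ H := by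
      have := mul_mem (mul_mem (mul_mem hhH hcK) (inv_mem hhH)) (inv_mem hcK)
      rwa [show ∀ g : ↥(twistedG2 K (3 ^ m)), h * (g * tor C b') * h⁻¹ * (g * tor C b')⁻¹ =
          h * g * h⁻¹ * g⁻¹ from fun g => by
        have e4 : tor C b' * h⁻¹ = h⁻¹ * tor C b' := by
          rw [eq_inv_mul_iff_mul_eq, ← mul_assoc, hcomm, mul_inv_cancel_right]
        calc h * (g * tor C b') * h⁻¹ * (g * tor C b')⁻¹
            = h * g * (tor C b' * h⁻¹) * ((tor C b')⁻¹ * g⁻¹) := by group
          _ = h * g * (h⁻¹ * tor C b') * ((tor C b')⁻¹ * g⁻¹) := by rw [e4]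
          _ = _ := by group] at this
    rw [hh, conj_el, hb] at hd
    obtain ⟨I', J', e5⟩ := inv_el C (1 + -(C.chi b' : K)) U V
    obtain ⟨U', V', e6⟩ := mul_mem_posU C ((lam : K) * (1 + -(C.chi b' : K))) ((C.phi lam : K) * U)
      ((psi C lam : K) * V) (-(1 + -(C.chi b' : K))) I' J'
    rw [e5, e6] at hd
    refine ⟨_, U', V', ?_, hd⟩
    rw [show (lam : K) * (1 + -(C.chi b' : K)) + -(1 + -(C.chi b' : K)) = ((lam : K) - 1) * (1 - (C.chi b' : K))
      by ring]
    exact mul_ne_zero (sub_ne_zero.2 fun e => hlam1 (Units.ext e))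
      (sub_ne_zero.2 fun e => hb'1 (Units.ext e.symm))
  have hall : ∀ t, ∃ u v, el C t u v ∈ H := by
    refine CfsgLib.Classical.UnitTwoGen.all_of_powers ht0 lam.ne_zero (fun r hr hrr e => hsmall r hr hrr ?_)
      (fun t => ∃ u v, el C t u v ∈ H) ?_ ?_ ?_
    · rw [mul_comm, pow_mul, show lam ^ (r - 1) = 1 from Units.ext (by simpa using e), one_pow]
    · rintro s t ⟨u, v, h1⟩ ⟨u', v', h2⟩
      obtain ⟨U, V, e⟩ := mul_mem_posU C s u v t u' v'
      exact ⟨U, V, e ▸ mul_mem h1 h2⟩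
    · rintro t ⟨u, v, h1⟩
      obtain ⟨U, V, e⟩ := inv_el C t u v
      exact ⟨U, V, e ▸ inv_mem h1⟩
    · intro k
      induction k with
      | zero => exact ⟨u0, v0, by rw [pow_zero, one_mul]; exact hg0⟩
      | succ k ih =>
        obtain ⟨u, v, h1⟩ := ih
        have h2 := mul_mem (mul_mem hhH h1) (inv_mem hhH)
        rw [hh, conj_el, hb, ← mul_assoc, ← pow_succ'] at h2
        exact ⟨_, _, h2⟩
  -- the derived layer
  obtain ⟨a0, w0, ha0, hd0⟩ : ∃ a w, a ≠ 0 ∧ el C 0 a w ∈ H := by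
    obtain ⟨μ, hμ⟩ : ∃ μ : K, C.f μ ≠ μ := by
      by_contra hcon
      push Not at hcon
      have hfix : ∀ y : Kˣ, y ^ (2 : ℕ) = 1 := fun y => by
        have e : C.fu (C.fu y) ^ 3 = y := C.fu_theta y
        have e2 : C.fu y = y := Units.ext (hcon _)
        rw [e2, e2] at e
        exact mul_left_cancel (a := y) (by rw [← pow_succ', mul_one]; exact e)
      exact hsmall 2 le_rfl (by omega) (hfix lam)
    obtain ⟨u1, v1, h1⟩ := hall 1
    obtain ⟨u2, v2, h2⟩ := hall μ
    obtain ⟨U, V, e, hU⟩ := mid_coord C 1 u1 v1 μ u2 v2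
    obtain ⟨U', V', e', hU'⟩ := mid_coord C μ u2 v2 1 u1 v1
    rw [add_comm μ 1] at e'
    obtain ⟨W, e7, -⟩ := low_mul_el C (1 + μ) U' V' (U - U') 0
    have e8 : el C (1 + μ) U V = el C 0 (U - U') (V - W) * el C (1 + μ) U' V' := by
      obtain ⟨W', e9, -⟩ := low_mul_el C (1 + μ) U' V' (U - U') (V - W)
      rw [e9, add_sub_cancel]
      congr 1
      have e10 : el C 0 (U - U') (V - W) * el C (1 + μ) U' V' =
          el C (1 + μ) U (W + (V - W)) := by
        rw [show el C 0 (U - U') (V - W) = el C 0 (U - U') 0 * el C 0 0 (V - W) by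
            rw [el_mul_low, add_zero, zero_add],
          mul_assoc, ← comm_W, ← mul_assoc, e7, add_sub_cancel, el_mul_low, add_zero]
      rw [e9, add_sub_cancel] at e10
      rw [(el_inj C e10).2.2]; ring
    refine ⟨U - U', V - W, fun h0 => hμ ?_, ?_⟩
    · have : C.f U - C.f U' = 0 := by rw [← map_sub, h0, map_zero]
      rw [hU, hU', map_one] at this
      linear_combination this
    · have hp := mul_mem (mul_mem h1 h2) (inv_mem (mul_mem h2 h1))
      rwa [e, e', e8, mul_inv_cancel_right] at hp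
  have hlow : ∀ u, ∃ v, el C 0 u v ∈ H := by
    refine CfsgLib.Classical.UnitTwoGen.all_of_powers ha0 (C.phi lam).ne_zero (fun r hr hrr e => hsmall r hr hrr ?_)
      (fun u => ∃ v, el C 0 u v ∈ H) ?_ ?_ ?_
    · have e1 : C.phi (lam ^ (r - 1)) = 1 := Units.ext (by rw [map_pow]; simpa using e)
      rcases C.phi_fix (w := lam ^ (r - 1)) (by rw [e1, one_mul]) with h1 | h1 <;>
        rw [mul_comm, pow_mul, h1] <;> simp
    · rintro s t ⟨v, h1⟩ ⟨v', h2⟩
      exact ⟨v + v', el_mul_low C 0 s v t v' ▸ mul_mem h1 h2⟩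
    · rintro t ⟨v, h1⟩
      exact ⟨-v, inv_low C t v ▸ inv_mem h1⟩
    · intro k
      induction k with
      | zero => exact ⟨w0, by rw [pow_zero, one_mul]; exact hd0⟩
      | succ k ih =>
        obtain ⟨v, h1⟩ := ih
        have h2 := mul_mem (mul_mem hhH h1) (inv_mem hhH)
        rw [hh, conj_el, hb, mul_zero, ← mul_assoc, ← pow_succ'] at h2
        exact ⟨_, h2⟩
  have hW : ∀ w, el C 0 0 w ∈ H := fun w => by
    obtain ⟨u1, v1, h1⟩ := hall 1
    obtain ⟨v2, h2⟩ := hlow w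
    have := mul_mem (mul_mem (mul_mem h1 h2) (inv_mem h1)) (inv_mem h2)
    rwa [cm_low, one_mul] at this
  have hU : ∀ t u v, el C t u v ∈ H := fun t u v => by
    obtain ⟨u', v', h1⟩ := hall t
    obtain ⟨v'', h2⟩ := hlow (u - u')
    have h3 : el C t u (v' + v'') ∈ H := by
      have := mul_mem h1 h2
      rwa [el_mul_low, add_sub_cancel] at this
    have := mul_mem h3 (hW (v - (v' + v'')))
    rwa [el_mul_low, add_zero, add_sub_cancel] at this
  have hnH : n ∈ H := by
    have := mul_mem (inv_mem (hU 1 0 0)) hbH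
    rwa [← hx, inv_mul_cancel_left] at this
  rintro ⟨g, hg⟩ -
  have key : ∀ z ∈ Subgroup.closure {g | ∃ w ∈ g2Words K (3 ^ m), g = wU chevG2 w},
      ∃ hz : z ∈ twistedG2 K (3 ^ m), (⟨z, hz⟩ : ↥(twistedG2 K (3 ^ m))) ∈ H := by
    intro z hz
    induction hz using Subgroup.closure_induction with
    | mem y hy =>
      obtain ⟨hyG, o', hor⟩ := C.gen_orbit hy
      refine ⟨hyG, ?_⟩
      have hpos : ∀ (z : GL chevG2.Idx K) (hzG : z ∈ twistedG2 K (3 ^ m)),
          z ∈ rootClosure chevG2 K ((O o).posO DataG2.co) →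
            (⟨z, hzG⟩ : ↥(twistedG2 K (3 ^ m))) ∈ H := by
        intro z hzG hz
        obtain ⟨t, u, v, rfl⟩ := C.fix_class (C.sys.le_fix hzG)
          (rootClosure_mono (fun r hr => (posO_iff_list DataG2.chk_arrays pos_list r hr).1) hz)
        exact hU t u v
      revert hor
      revert o'
      refine fin_cases_spec (fun hor => ?_)
      rcases hor with hor | hor
      · exact hpos y hyG hor
      · have h1 : C.sys.nO o * y * (C.sys.nO o)⁻¹ ∈ rootClosure chevG2 K ((O o).posO DataG2.co) := by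
          refine C.sys.sig.hF.conj_rootClosure (C.sys.nO_perm o) (P := (O o).negO DataG2.co)
            (fun s hs => ?_) hor
          have hF' := C.sys.sig.hF
          obtain ⟨h1, h2⟩ := C.sys.wO_inO o (r := hF'.negFin s) ((hF'.negFin_pos s).2 hs.1)
            (hF'.inSub_neg s.isLt hs.2)
          have e : (O o).wO (hF'.negFin s) = hF'.negFin ((O o).wO s) := hF'.sW_neg _ s
          rw [e] at h1 h2
          refine ⟨not_lt.1 fun h => absurd ((hF'.negFin_pos _).2 h) (not_le.2 h1), ?_⟩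
          have h3 := hF'.inSub_neg (hF'.neg_lt ((O o).wO s).isLt) h2
          rwa [hF'.neg_neg ((O o).wO s).isLt] at h3
        have h2 := hpos _ (mul_mem (mul_mem (C.sys.nO_mem o) hyG) (inv_mem (C.sys.nO_mem o))) h1
        have h3 := mul_mem (mul_mem (inv_mem hnH) h2) hnH
        convert h3 using 1
        refine Subtype.ext ?_
        simp [hn, mul_assoc]
    | one => exact ⟨one_mem _, one_mem H⟩
    | mul a c _ _ ha hc => exact ⟨mul_mem ha.1 hc.1, mul_mem ha.2 hc.2⟩
    | inv a _ ha => exact ⟨inv_mem ha.1, inv_mem ha.2⟩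
  exact (key g (C.gen_eq ▸ hg)).2

end CfsgLib.Chev.TwoGen
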