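/-
Two generators of a split Chevalley group: closure of a set of root subgroups under a monomial element and
one-term commutators, and the extraction of root subgroups from two elements.
-/
import Mathlib
import Cfsg.Agent.Lib.Chev.Struct
import Cfsg.Agent.Lib.Chev.Torus
import Cfsg.Agent.Lib.Chev.SL2
import Cfsg.Agent.Lib.Chev.Twist.Words
import Cfsg.Agent.Lib.Classical.UnitTwoGen.Gen
import Cfsg.Agent.Lib.Chev.TwoGen.Base

set_option autoImplicit false

namespace CfsgLib.Chev.TwoGen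

open Cfsg.Lie

universe v

/-- The image of a root under a word of reflections. -/
def wordRoot (D : ChevalleyDatum) (w : List (Fin D.rank)) (a : ℕ) : ℕ :=
  (w.map Fin.val).foldr (fun i x => D.reflectRoot i x) a

/-- The pair of roots has the one-term commutator with the given root. -/
def singleB (D : ChevalleyDatum) (a b k : ℕ) : Bool :=
  decide (a < D.nroots) && decide (b < D.nroots) && b != a && b != D.neg a &&
    (D.commTerms a b == [(k, 1, 1, 1)] || D.commTerms a b == [(k, -1, 1, 1)])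

/-- The pair of roots commutes. -/
def commuteB (D : ChevalleyDatum) (a b : ℕ) : Bool :=
  decide (a < D.nroots) && decide (b < D.nroots) && b != a && b != D.neg a && D.commTerms a b == []

/-- The steps derive all the targets from the known roots. -/
def chainB (D : ChevalleyDatum) (w : List (Fin D.rank)) :
    List ℕ → List (ℕ × ℕ × ℕ) → List ℕ → Bool
  | known, [], tgt => tgt.all fun x => known.contains x
  | known, (k, a, b) :: rest, tgt =>
    known.contains a && known.contains b &&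
      (if a == b then decide (a < D.nroots) && wordRoot D w a == k else singleB D a b k) &&
      chainB D w (k :: known) rest tgt

/-- The fundamental roots and their negatives. -/
def genRoots (D : ChevalleyDatum) : List ℕ :=
  (List.range D.rank).map D.simple ++ (List.range D.rank).map fun i => D.neg (D.simple i)

/-- The weight of a root on a cocharacter given by its exponents. -/
def expo (D : ChevalleyDatum) (v : List ℤ) (x : ℕ) : ℤ :=
  ∑ i ∈ Finset.range D.rank, v.getD i 0 * D.cartan i x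

/-- The check of the data of generation over fields with more than two elements. -/
def bigB (D : ChevalleyDatum) (w : List (Fin D.rank)) (v : List ℤ) (r s s' j : ℕ)
    (st : List (ℕ × ℕ × ℕ)) : Bool :=
  decide (r < D.nroots) && decide (s < D.nroots) && decide (s' < D.nroots) &&
    expo D v r == 0 && (expo D v s).natAbs == 1 && (expo D v s').natAbs == 1 &&
    wordRoot D w s' == s &&
    ((expo D v ((wordRoot D w)^[j] r)).natAbs == 1 || (expo D v ((wordRoot D w)^[j] r)).natAbs == 2) &&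
    chainB D w [s, (wordRoot D w)^[j] r] st (genRoots D)

/-- The check of the data of one root over the field with two elements. -/
def oneB (D : ChevalleyDatum) (w : List (Fin D.rank)) (u : ℕ) (st : List (ℕ × ℕ × ℕ)) : Bool :=
  decide (u < D.nroots) && chainB D w [u] st (genRoots D)

/-- The check of the data of a pair of roots over the field with two elements. -/
def pairB (D : ChevalleyDatum) (w : List (Fin D.rank)) (u v u' v' k : ℕ) (st st' : List (ℕ × ℕ × ℕ)) :
    Bool :=
  wordRoot D w u == u' && wordRoot D w v == v' && singleB D u u' k && commuteB D u v &&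
    commuteB D u' v' && commuteB D u v' && commuteB D v u' && commuteB D v v' &&
    chainB D w [k] st [u] && chainB D w [k, u, v] st' (genRoots D)

/-- The check of the data of a root and a commuting element of order three over the field with two elements. -/
def tripleB (D : ChevalleyDatum) (w : List (Fin D.rank)) (v t b k : ℕ) (st st' : List (ℕ × ℕ × ℕ)) :
    Bool :=
  decide (t < D.nroots) && commuteB D v t && commuteB D v (D.neg t) && commuteB D b (D.neg t) &&
    singleB D t b k && chainB D w [v] st [b] && chainB D w [v, k] st' (genRoots D)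

variable {D : ChevalleyDatum} {co : ℕ → ℕ → ℤ} {K : Type v} [Field K] (hF : Facts D co)
  (hC : CommF.{v} D)
include hF

theorem wordRoot_lt (w : List (Fin D.rank)) {a : ℕ} (ha : a < D.nroots) :
    wordRoot D w a < D.nroots := by
  rw [wordRoot, ← hF.sW_val_foldr w ⟨a, ha⟩]
  exact (sW D w ⟨a, ha⟩).isLt

theorem nW_mem_group (w : List (Fin D.rank)) : nW D K w ∈ D.group K :=
  hF.monomial_le_group (hF.nW_mem w)

/-- Conjugation of a root element by the monomial element. -/
theorem conj_root (w : List (Fin D.rank)) {a : ℕ} (ha : a < D.nroots) :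
    ∃ c : K, c ≠ 0 ∧ ∀ t : K, nW D K w * xU D a t * (nW D K w)⁻¹ = xU D (wordRoot D w a) (c * t) := by
  obtain ⟨c, hc, h, -⟩ := hF.permAct_nW (F := K) w ⟨a, ha⟩
  refine ⟨c, hc, fun t => ?_⟩
  rw [h t, hF.sW_val_foldr]
  rfl

include hC

theorem commute_of_commuteB {a b : ℕ} (h : commuteB D a b = true) (t u : K) :
    Commute (xU D a t) (xU D b u) := by
  simp only [commuteB, Bool.and_eq_true, decide_eq_true_eq, bne_iff_ne, beq_iff_eq] at h
  obtain ⟨⟨⟨⟨ha, hb⟩, h1⟩, h2⟩, h3⟩ := h
  have := hF.xU_comm hC ha hb h1 h2 t u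
  rw [show wU D (cwR D a b t u) = 1 by simp [cwR, h3, wU], mul_one] at this
  exact this.symm

theorem single_comm {a b k : ℕ} (h : singleB D a b k = true) :
    ∃ e : K, e * e = 1 ∧ k < D.nroots ∧
      ∀ t : K, (xU D b t)⁻¹ * (xU D a 1)⁻¹ * xU D b t * xU D a 1 = xU D k (e * t) := by
  simp only [singleB, Bool.and_eq_true, Bool.or_eq_true, decide_eq_true_eq, bne_iff_ne, beq_iff_eq] at h
  obtain ⟨⟨⟨⟨ha, hb⟩, h1⟩, h2⟩, h3⟩ := h
  have key : ∀ C : ℤ, C = 1 ∨ C = -1 → D.commTerms a b = [(k, C, 1, 1)] → ∃ e : K, e * e = 1 ∧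
      k < D.nroots ∧
      ∀ t : K, (xU D b t)⁻¹ * (xU D a 1)⁻¹ * xU D b t * xU D a 1 = xU D k (e * t) := by
    intro C hC1 hT
    refine ⟨-(C : K), by rcases hC1 with rfl | rfl <;> simp,
      (hF.commTerms_wt hF.isWeight_omega ha hb (c := (k, C, 1, 1)) (by simp [hT])).1, fun t => ?_⟩
    have := hF.xU_comm hC ha hb h1 h2 (1 : K) t
    rw [show wU D (cwR D a b (1 : K) t) = xU D k (-(C : K) * t) by simp [cwR, hT, wU]] at this
    rw [mul_assoc ((xU D b t)⁻¹ * (xU D a 1)⁻¹), this]
    group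
  rcases h3 with h3 | h3
  · exact key 1 (Or.inl rfl) h3
  · exact key (-1) (Or.inr rfl) h3

/-- Root subgroups derived by the steps. -/
theorem chain_mem {S : Subgroup (GL D.Idx K)} {w : List (Fin D.rank)} (hw : nW D K w ∈ S)
    {tgt : List ℕ} : ∀ (st : List (ℕ × ℕ × ℕ)) (known : List ℕ),
      chainB D w known st tgt = true → (∀ x ∈ known, ∀ t : K, xU D x t ∈ S) →
      ∀ x ∈ tgt, ∀ t : K, xU D x t ∈ S
  | [], known, h, hk, x, hx => by
    simp only [chainB, List.all_eq_true] at h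
    exact hk x (by simpa using h x hx)
  | (k, a, b) :: rest, known, h, hk, x, hx => by
    simp only [chainB, Bool.and_eq_true] at h
    obtain ⟨⟨⟨h1, h2⟩, h3⟩, h4⟩ := h
    have ha : ∀ t : K, xU D a t ∈ S := hk a (by simpa using h1)
    have hb : ∀ t : K, xU D b t ∈ S := hk b (by simpa using h2)
    refine chain_mem hw rest (k :: known) h4 (fun y hy => ?_) x hx
    rcases List.mem_cons.1 hy with rfl | hy
    · intro t
      split at h3
      · simp only [Bool.and_eq_true, decide_eq_true_eq, beq_iff_eq] at h3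
        obtain ⟨c, hc, e⟩ := conj_root hF (K := K) w h3.1
        have := S.mul_mem (S.mul_mem hw (ha (t / c))) (S.inv_mem hw)
        rwa [e, h3.2, mul_div_cancel₀ _ hc] at this
      · obtain ⟨e, he, -, h5⟩ := single_comm hF hC (K := K) h3
        have := S.mul_mem (S.mul_mem (S.mul_mem (S.inv_mem (hb (e * t))) (S.inv_mem (ha 1))) (hb (e * t)))
          (ha 1)
        rwa [h5, ← mul_assoc, he, one_mul] at this
    · exact hk y hy

/-- The fundamental root subgroups and their opposites generate. -/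
theorem group_le {S : Subgroup (GL D.Idx K)} (h : ∀ x ∈ genRoots D, ∀ t : K, xU D x t ∈ S) :
    D.group K ≤ S := by
  have hall : ∀ {r : ℕ}, r < D.nroots → ∀ t : K, xU D r t ∈ S := fun {r} hr =>
    hF.root_induction (P := fun r => ∀ t : K, xU D r t ∈ S)
      (fun i hi => h _ (List.mem_append_left _ (List.mem_map.2 ⟨i, List.mem_range.2 hi, rfl⟩)))
      (fun i hi s hs hP t => by
        obtain ⟨η, h1, -, h3⟩ := hF.exists_eta (F := K) hi
        have hn : nU D (D.simple i) (1 : K) ∈ S := hF.nU_mem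
          (h _ (List.mem_append_left _ (List.mem_map.2 ⟨i, List.mem_range.2 hi, rfl⟩)))
          (h _ (List.mem_append_right _ (List.mem_map.2 ⟨i, List.mem_range.2 hi, rfl⟩))) 1
        have := S.mul_mem (S.mul_mem hn (hP ((η s : K) * t))) (S.inv_mem hn)
        rw [h3 s hs, mul_inv_cancel_right, ← mul_assoc] at this
        rcases h1 s hs with e | e <;> simpa [e] using this) hr
  rw [hF.group_eq, rootClosure, Subgroup.closure_le]
  rintro g ⟨r, t, hr, -, rfl⟩
  exact hall hr t

theorem two_gen_big [Fintype K] {w : List (Fin D.rank)} {v : List ℤ} {r s s' j : ℕ}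
    {st : List (ℕ × ℕ × ℕ)} (h : bigB D w v r s s' j st = true) (h3 : 3 ≤ Fintype.card K) :
    ∃ a b : ↥(D.group K), Subgroup.closure ({a, b} : Set ↥(D.group K)) = ⊤ := by
  classical
  simp only [bigB, Bool.and_eq_true, Bool.or_eq_true, decide_eq_true_eq, beq_iff_eq] at h
  obtain ⟨⟨⟨⟨⟨⟨⟨⟨hr, hs⟩, hs'⟩, er⟩, es⟩, es'⟩, hws⟩, ej⟩, hchain⟩ := h
  obtain ⟨lam, hlam⟩ := IsCyclic.exists_generator (α := Kˣ)
  have hord : orderOf lam = Fintype.card K - 1 := by
    rw [orderOf_eq_card_of_forall_mem_zpowers hlam, Nat.card_eq_fintype_card, Fintype.card_units]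
  set c : ℕ → Kˣ := fun i => lam ^ v.getD i 0
  have hchi : ∀ x, (∏ i ∈ Finset.range D.rank, c i ^ D.cartan i x) = lam ^ expo D v x := fun x => by
    rw [expo, CfsgLib.Chev.zpow_sum']
    exact Finset.prod_congr rfl fun i _ => (zpow_mul _ _ _).symm
  set h := hT D c with hh
  have hconj : ∀ {x : ℕ}, x < D.nroots → ∀ t : K,
      h * xU D x t * h⁻¹ = xU D x (((lam ^ expo D v x : Kˣ) : K) * t) := fun hx t => by
    rw [hh, hF.hT_conj_xU _ hx, hchi]
  have hne : ∀ {e : ℤ}, e.natAbs = 1 → lam ^ e ≠ 1 := fun he e1 => by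
    have h5 := orderOf_dvd_iff_zpow_eq_one.2 e1
    rw [hord, ← Int.natAbs_dvd_natAbs, he, Int.natAbs_natCast, Nat.dvd_one] at h5
    omega
  have hsmall : ∀ {e : ℤ}, e.natAbs = 1 ∨ e.natAbs = 2 → ∀ r, 2 ≤ r → r * r ≤ Fintype.card K →
      ((lam ^ e : Kˣ) : K) ^ (r - 1) ≠ 1 := by
    intro e he r h2 hrr e1
    rw [← Units.val_pow_eq_pow_val, Units.val_eq_one, ← zpow_natCast, ← zpow_mul] at e1
    have h5 := orderOf_dvd_iff_zpow_eq_one.2 e1
    rw [hord, ← Int.natAbs_dvd_natAbs, Int.natAbs_mul, Int.natAbs_natCast, Int.natAbs_natCast] at h5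
    have h6 := Nat.mul_le_mul_right r h2
    rcases he with he | he <;> rw [he] at h5 <;> have h7 := Nat.le_of_dvd (by omega) h5
    · omega
    · have h8 : (r - 1) * (r - 1) + 2 * r = r * r + 1 := by
        obtain ⟨k, rfl⟩ : ∃ k, r = k + 1 := ⟨r - 1, by omega⟩
        rw [Nat.add_sub_cancel]; ring
      have h9 : 0 < (r - 1) * (r - 1) := Nat.mul_pos (by omega) (by omega)
      omega
  have hhG : h ∈ D.group K := hF.diagonal_le_group (hF.mem_diagonal_iff.2 ⟨c, rfl⟩)
  obtain ⟨p, hch⟩ := CharP.exists K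
  obtain ⟨k, hp, hcard⟩ := FiniteField.card K p
  have hcop : Nat.Coprime (Fintype.card K - 1) p := by
    refine (hp.coprime_iff_not_dvd.2 fun hd => ?_).symm
    have h5 : p ∣ Fintype.card K := by rw [hcard]; exact dvd_pow_self _ k.pos.ne'
    have h6 := Nat.dvd_sub h5 hd
    rw [show Fintype.card K - (Fintype.card K - 1) = 1 by omega, Nat.dvd_one] at h6
    exact hp.ne_one h6
  have hh1 : h ^ (Fintype.card K - 1) = 1 := by
    have key : ∀ i : ℕ, h ^ i = hT D (fun l => c l ^ i) := by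
      intro i
      induction i with
      | zero => simp [hF.hT_one]
      | succ i ih => rw [pow_succ, ih, hh, ← hF.hT_mul]; simp only [pow_succ]
    rw [key, ← hord]
    refine (congrArg (hT D) (funext fun l => ?_)).trans hF.hT_one
    rw [← zpow_natCast, ← zpow_mul, mul_comm, zpow_mul, zpow_natCast, pow_orderOf_eq_one, one_zpow]
  have hxp : xU D r (1 : K) ^ p = 1 := by
    have key : ∀ i : ℕ, xU D r (1 : K) ^ i = xU D r (i : K) := by
      intro i
      induction i with
      | zero => rw [pow_zero, Nat.cast_zero, hF.xU_zero hr]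
      | succ i ih => rw [pow_succ, ih, hF.xU_add hr, Nat.cast_succ]
    rw [key, CharP.cast_eq_zero, hF.xU_zero hr]
  set n := nW D K w with hn
  refine two_gen_of_le (a := h * xU D r 1) (b := xU D s 1 * n)
    (Subgroup.mul_mem _ hhG (hF.xU_mem_group hr 1))
    (Subgroup.mul_mem _ (hF.xU_mem_group hs 1) (nW_mem_group hF w)) ?_
  set S := Subgroup.closure ({h * xU D r (1 : K), xU D s 1 * n} : Set (GL D.Idx K))
  have haS : h * xU D r (1 : K) ∈ S := Subgroup.subset_closure (Or.inl rfl)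
  have hbS : xU D s 1 * n ∈ S := Subgroup.subset_closure (Or.inr rfl)
  have hcr : Commute h (xU D r (1 : K)) := by
    refine mul_inv_eq_iff_eq_mul.1 ?_
    rw [hconj hr, er, zpow_zero, Units.val_one, one_mul]
  obtain ⟨hhS, hxS⟩ := split_coprime hcr hcop hh1 hxp haS
  -- the root group of `s`
  set χ : K := ((lam ^ expo D v s : Kˣ) : K) with hχ
  set χ' : K := ((lam ^ expo D v s' : Kˣ) : K) with hχ'
  have hd : xU D s ((χ - 1) * (1 - χ')) ∈ S := by
    obtain ⟨d, hd, hdn⟩ := conj_root hF (K := K) w hs'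
    rw [hws] at hdn
    set h' := n * h * n⁻¹ with hh'
    have hh'x : h' * xU D s 1 * h'⁻¹ = xU D s χ' := by
      have e : xU D s (1 : K) = n * xU D s' d⁻¹ * n⁻¹ := by rw [hn, hdn, mul_inv_cancel₀ hd]
      rw [e, hh', show n * h * n⁻¹ * (n * xU D s' d⁻¹ * n⁻¹) * (n * h * n⁻¹)⁻¹ =
        n * (h * xU D s' d⁻¹ * h⁻¹) * n⁻¹ by group, hconj hs', hn, hdn, ← hχ', mul_left_comm,
        mul_inv_cancel₀ hd, mul_one]
    have hcK : xU D s 1 * h' * (xU D s 1)⁻¹ ∈ S := by
      rw [hh', show xU D s 1 * (n * h * n⁻¹) * (xU D s 1)⁻¹ =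
        (xU D s 1 * n) * h * (xU D s 1 * n)⁻¹ by group]
      exact S.mul_mem (S.mul_mem hbS hhS) (S.inv_mem hbS)
    have hd := S.mul_mem (S.mul_mem (S.mul_mem hhS hcK) (S.inv_mem hhS)) (S.inv_mem hcK)
    have hcomm : Commute h h' := by
      obtain ⟨y, hy⟩ := hF.mem_diagonal_iff.1
        (hF.conj_diagonal (hF.nW_mem (F := K) w) (hF.mem_diagonal_iff.2 ⟨c, rfl⟩) : n * h * n⁻¹ ∈ _)
      rw [hh', hy, hh, Commute, SemiconjBy, ← hF.hT_mul, ← hF.hT_mul]
      exact congrArg (hT D) (funext fun i => mul_comm _ _)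
    rwa [comm_conj hcomm, hh'x, hF.xU_inv hs, hF.xU_add hs, hconj hs, hF.xU_inv hs, hF.xU_add hs,
      ← hχ, show χ * (1 + -χ') + -(1 + -χ') = (χ - 1) * (1 - χ') by ring] at hd
  have hpow : ∀ {x : ℕ}, x < D.nroots → ∀ {c0 : K}, c0 ≠ 0 → xU D x c0 ∈ S →
      ((expo D v x).natAbs = 1 ∨ (expo D v x).natAbs = 2) → ∀ t : K, xU D x t ∈ S := by
    intro x hx c0 hc0 hc0S he
    refine CfsgLib.Classical.UnitTwoGen.all_of_powers hc0 (lam ^ expo D v x).ne_zero (hsmall he)
      (fun t => xU D x t ∈ S) (fun a b ha hb => hF.xU_add hx a b ▸ S.mul_mem ha hb)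
      (fun a ha => hF.xU_inv hx a ▸ S.inv_mem ha) fun i => ?_
    induction i with
    | zero => rwa [pow_zero, one_mul]
    | succ i ih =>
      have := S.mul_mem (S.mul_mem hhS ih) (S.inv_mem hhS)
      rwa [hconj hx, ← mul_assoc, ← pow_succ'] at this
  have hsall : ∀ t : K, xU D s t ∈ S := hpow hs (mul_ne_zero
    (sub_ne_zero.2 fun e => hne es (Units.ext e)) (sub_ne_zero.2 fun e => hne es' (Units.ext e.symm)))
    hd (Or.inl es)
  have hnS : n ∈ S := by
    have := S.mul_mem (S.inv_mem (hsall 1)) hbS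
    rwa [inv_mul_cancel_left] at this
  obtain ⟨hlt, c1, hc1, hc1S⟩ : (wordRoot D w)^[j] r < D.nroots ∧
      ∃ c1 : K, c1 ≠ 0 ∧ xU D ((wordRoot D w)^[j] r) c1 ∈ S := by
    clear hchain ej
    induction j with
    | zero => exact ⟨hr, 1, one_ne_zero, hxS⟩
    | succ j ih =>
      obtain ⟨hlt, c1, hc1, hc1S⟩ := ih
      rw [Function.iterate_succ_apply']
      obtain ⟨d, hd, hdn⟩ := conj_root hF (K := K) w hlt
      refine ⟨wordRoot_lt hF w hlt, d * c1, mul_ne_zero hd hc1, ?_⟩
      rw [← hdn]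
      exact S.mul_mem (S.mul_mem hnS hc1S) (S.inv_mem hnS)
  refine group_le hF hC (chain_mem hF hC hnS st _ hchain fun x hx => ?_)
  simp only [List.mem_cons, List.not_mem_nil, or_false] at hx
  rcases hx with rfl | rfl
  · exact hsall
  · exact hpow hlt hc1 hc1S ej

/-! ### The field with two elements -/

omit hC in
theorem all_of_one [Fintype K] (h2 : Fintype.card K = 2) {S : Subgroup (GL D.Idx K)} {x : ℕ}
    (hx : x < D.nroots) (h : xU D x (1 : K) ∈ S) (t : K) : xU D x t ∈ S := by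
  rcases eq_or_ne t 0 with rfl | ht
  · rw [hF.xU_zero hx]; exact S.one_mem
  · have := FiniteField.pow_card_sub_one_eq_one t ht
    rw [h2, show 2 - 1 = 1 from rfl, pow_one] at this
    rwa [this]

omit hC in
theorem inv_one_two [Fintype K] (h2 : Fintype.card K = 2) {x : ℕ} (hx : x < D.nroots) :
    (xU D x (1 : K))⁻¹ = xU D x 1 := by
  have := FiniteField.pow_card_sub_one_eq_one (-1 : K) (neg_ne_zero.2 one_ne_zero)
  rw [h2, show 2 - 1 = 1 from rfl, pow_one] at this
  rw [hF.xU_inv hx, this]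

omit hF hC in
theorem eq_one_two [Fintype K] (h2 : Fintype.card K = 2) {c : K} (hc : c ≠ 0) : c = 1 := by
  have := FiniteField.pow_card_sub_one_eq_one c hc
  rwa [h2, show 2 - 1 = 1 from rfl, pow_one] at this

theorem two_gen_one [Fintype K] (h2 : Fintype.card K = 2) {w : List (Fin D.rank)} {u : ℕ}
    {st : List (ℕ × ℕ × ℕ)} (h : oneB D w u st = true) :
    ∃ a b : ↥(D.group K), Subgroup.closure ({a, b} : Set ↥(D.group K)) = ⊤ := by
  simp only [oneB, Bool.and_eq_true, decide_eq_true_eq] at h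
  refine two_gen_of_le (a := xU D u 1) (b := nW D K w) (hF.xU_mem_group h.1 1) (nW_mem_group hF w) ?_
  refine group_le hF hC (chain_mem hF hC (Subgroup.subset_closure (Or.inr rfl)) st _ h.2 fun x hx => ?_)
  rw [List.mem_singleton.1 hx]
  exact all_of_one hF h2 h.1 (Subgroup.subset_closure (Or.inl rfl))

theorem two_gen_pair [Fintype K] (h2 : Fintype.card K = 2) {w : List (Fin D.rank)} {u v u' v' k : ℕ}
    {st st' : List (ℕ × ℕ × ℕ)} (h : pairB D w u v u' v' k st st' = true) :
    ∃ a b : ↥(D.group K), Subgroup.closure ({a, b} : Set ↥(D.group K)) = ⊤ := by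
  simp only [pairB, Bool.and_eq_true, beq_iff_eq] at h
  obtain ⟨⟨⟨⟨⟨⟨⟨⟨⟨eu, ev⟩, hs⟩, huv⟩, huv'⟩, hcuv'⟩, hvu'⟩, hvv'⟩, hchain⟩, hchain'⟩ := h
  have hlt : u < D.nroots ∧ v < D.nroots := by
    simp only [commuteB, Bool.and_eq_true, decide_eq_true_eq] at huv
    exact ⟨huv.1.1.1.1, huv.1.1.1.2⟩
  obtain ⟨e, he, hk, hkey⟩ := single_comm hF hC (K := K) hs
  refine two_gen_of_le (a := xU D u 1 * xU D v 1) (b := nW D K w)
    (Subgroup.mul_mem _ (hF.xU_mem_group hlt.1 1) (hF.xU_mem_group hlt.2 1)) (nW_mem_group hF w) ?_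
  set S := Subgroup.closure ({xU D u (1 : K) * xU D v 1, nW D K w} : Set (GL D.Idx K))
  have haS : xU D u (1 : K) * xU D v 1 ∈ S := Subgroup.subset_closure (Or.inl rfl)
  have hnS : nW D K w ∈ S := Subgroup.subset_closure (Or.inr rfl)
  obtain ⟨c, hc, hcu⟩ := conj_root hF (K := K) w hlt.1
  obtain ⟨d, hd, hdv⟩ := conj_root hF (K := K) w hlt.2
  have ha' : xU D u' (1 : K) * xU D v' 1 ∈ S := by
    have := S.mul_mem (S.mul_mem hnS haS) (S.inv_mem hnS)
    rwa [show nW D K w * (xU D u 1 * xU D v 1) * (nW D K w)⁻¹ = nW D K w * xU D u 1 * (nW D K w)⁻¹ *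
      (nW D K w * xU D v 1 * (nW D K w)⁻¹) by group, hcu, hdv, eu, ev, eq_one_two h2 hc, eq_one_two h2 hd,
      one_mul] at this
  have hlt' : u' < D.nroots := eu ▸ wordRoot_lt hF w hlt.1
  have c1 := commute_of_commuteB hF hC huv (1 : K) 1
  have c2 := commute_of_commuteB hF hC huv' (1 : K) 1
  have c3 := commute_of_commuteB hF hC hcuv' (1 : K) 1
  have c4 := commute_of_commuteB hF hC hvu' (1 : K) 1
  have c5 := commute_of_commuteB hF hC hvv' (1 : K) 1
  set A := xU D u (1 : K)
  set B := xU D v (1 : K)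
  set A' := xU D u' (1 : K)
  set B' := xU D v' (1 : K)
  have hkS : xU D k (1 : K) ∈ S := by
    have hm := S.mul_mem (S.mul_mem (S.mul_mem (S.inv_mem ha') (S.inv_mem haS)) ha') haS
    have e1 : (A' * B')⁻¹ * (A * B)⁻¹ * (A' * B') * (A * B) = A'⁻¹ * A⁻¹ * A' * A := by
      have e2 : (A * B)⁻¹ * (A' * B') * (A * B) = A⁻¹ * (A' * B') * A := by
        have hB : Commute B (A⁻¹ * (A' * B') * A) :=
          ((c1.symm.inv_right).mul_right (c4.mul_right c5)).mul_right c1.symm
        calc (A * B)⁻¹ * (A' * B') * (A * B) = B⁻¹ * (A⁻¹ * (A' * B') * A * B) := by group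
          _ = B⁻¹ * (B * (A⁻¹ * (A' * B') * A)) := by rw [hB.eq]
          _ = _ := by rw [inv_mul_cancel_left]
      rw [mul_assoc, mul_assoc, ← mul_assoc (A * B)⁻¹, e2]
      have hB' : Commute B' (A'⁻¹ * A⁻¹ * A' * A) :=
        (((c2.symm.inv_right).mul_right c3.symm.inv_right).mul_right c2.symm).mul_right c3.symm
      calc (A' * B')⁻¹ * (A⁻¹ * (A' * B') * A) = B'⁻¹ * (A'⁻¹ * A⁻¹ * A' * (B' * A)) := by group
        _ = B'⁻¹ * (A'⁻¹ * A⁻¹ * A' * A * B') := by rw [c3.symm.eq]; simp only [mul_assoc]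
        _ = _ := by rw [← hB'.eq, inv_mul_cancel_left]
    rwa [e1, hkey, mul_one, eq_one_two h2 (left_ne_zero_of_mul_eq_one he)] at hm
  have hkall : ∀ x ∈ [k], ∀ t : K, xU D x t ∈ S := fun x hx => by
    rw [List.mem_singleton.1 hx]; exact all_of_one hF h2 hk hkS
  have huall := chain_mem hF hC hnS st _ hchain hkall u (by simp)
  refine group_le hF hC (chain_mem hF hC hnS st' _ hchain' fun x hx => ?_)
  simp only [List.mem_cons, List.not_mem_nil, or_false] at hx
  rcases hx with rfl | rfl | rfl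
  · exact hkall x (by simp)
  · exact huall
  · refine all_of_one hF h2 hlt.2 ?_
    have := S.mul_mem (S.inv_mem (huall 1)) haS
    rwa [inv_mul_cancel_left] at this

theorem two_gen_triple [Fintype K] (h2 : Fintype.card K = 2) {w : List (Fin D.rank)} {v t b k : ℕ}
    {st st' : List (ℕ × ℕ × ℕ)} (h : tripleB D w v t b k st st' = true) :
    ∃ a b : ↥(D.group K), Subgroup.closure ({a, b} : Set ↥(D.group K)) = ⊤ := by
  simp only [tripleB, Bool.and_eq_true, decide_eq_true_eq] at h
  obtain ⟨⟨⟨⟨⟨⟨ht, hvt⟩, hvn⟩, hbn⟩, hs⟩, hchain⟩, hchain'⟩ := h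
  have hlt : v < D.nroots ∧ b < D.nroots := by
    simp only [commuteB, Bool.and_eq_true, decide_eq_true_eq] at hvt hbn
    exact ⟨hvt.1.1.1.1, hbn.1.1.1.1⟩
  obtain ⟨e, he, hk, hkey⟩ := single_comm hF hC (K := K) hs
  set X := xU D t (1 : K) with hX
  set Y := xU D (D.neg t) (1 : K) with hY
  have hXi : X⁻¹ = X := inv_one_two hF h2 ht
  have hYi : Y⁻¹ = Y := inv_one_two hF h2 (hF.neg_lt ht)
  have h3 : (X * Y) ^ 3 = 1 := by
    have hnx := (hF.rankOne (F := K) ht).nx 1
    have hn1 : nU D t (1 : K) = X * Y * X := by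
      show xU D t 1 * xU D (D.neg t) (-1⁻¹) * xU D t 1 = _
      rw [inv_one, eq_one_two h2 (neg_ne_zero.2 one_ne_zero)]
    rw [hn1, eq_one_two h2 (neg_ne_zero.2 one_ne_zero), ← hX, ← hY] at hnx
    have e1 : X * Y * X * Y * X = Y := by
      refine Eq.trans ?_ hnx
      simp only [mul_inv_rev, hXi, hYi, ← mul_assoc]
      rw [mul_assoc (X * Y * X) X X]
      nth_rw 7 [← hXi]
      rw [mul_inv_cancel, mul_one]
    calc (X * Y) ^ 3 = X * Y * X * Y * X * Y := by simp [pow_succ, mul_assoc]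
      _ = Y * Y := by rw [e1]
      _ = 1 := by nth_rw 1 [← hYi]; exact inv_mul_cancel Y
  refine two_gen_of_le (a := X * Y * xU D v 1) (b := nW D K w)
    (Subgroup.mul_mem _ (Subgroup.mul_mem _ (hF.xU_mem_group ht 1) (hF.xU_mem_group (hF.neg_lt ht) 1))
      (hF.xU_mem_group hlt.1 1)) (nW_mem_group hF w) ?_
  set S := Subgroup.closure ({X * Y * xU D v (1 : K), nW D K w} : Set (GL D.Idx K))
  have hnS : nW D K w ∈ S := Subgroup.subset_closure (Or.inr rfl)
  obtain ⟨hyS, hvS⟩ := split_coprime (S := S) (b := 2)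
    ((commute_of_commuteB hF hC hvt (1 : K) 1).symm.mul_left (commute_of_commuteB hF hC hvn (1 : K) 1).symm)
    (show Nat.Coprime 3 2 by norm_num) h3
    (by nth_rw 1 [sq, ← inv_one_two hF h2 hlt.1]; exact inv_mul_cancel _)
    (Subgroup.subset_closure (Or.inl rfl))
  have hball := chain_mem hF hC hnS st _ hchain (fun x hx => by
    rw [List.mem_singleton.1 hx]; exact all_of_one hF h2 hlt.1 hvS) b (by simp)
  have hkS : xU D k (1 : K) ∈ S := by
    have hm := S.mul_mem (S.inv_mem (hball 1)) (S.mul_mem (S.mul_mem hyS (hball 1)) (S.inv_mem hyS))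
    have e1 : (xU D b (1 : K))⁻¹ * (X * Y * xU D b 1 * (X * Y)⁻¹) =
        (xU D b 1)⁻¹ * X⁻¹ * xU D b 1 * X := by
      rw [show X * Y * xU D b 1 * (X * Y)⁻¹ = X * (Y * xU D b 1 * Y⁻¹) * X⁻¹ by group,
        mul_inv_eq_iff_eq_mul.2 (commute_of_commuteB hF hC hbn (1 : K) 1).symm.eq, hXi]
      simp only [mul_assoc]
    rwa [e1, hkey, mul_one, eq_one_two h2 (left_ne_zero_of_mul_eq_one he)] at hm
  refine group_le hF hC (chain_mem hF hC hnS st' _ hchain' fun x hx => ?_)
  simp only [List.mem_cons, List.not_mem_nil, or_false] at hx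
  rcases hx with rfl | rfl
  · exact all_of_one hF h2 hlt.1 hvS
  · exact all_of_one hF h2 hk hkS

end CfsgLib.Chev.TwoGen
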