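/-
The data of the generation by two elements for the tabulated exceptional data.
-/
import Cfsg.Agent.Lib.Chev.All
import Cfsg.Agent.Lib.Chev.TwoGen.Split

set_option autoImplicit false
set_option maxRecDepth 50000

namespace CfsgLib.Chev.TwoGen

open Cfsg.Lie

/-- A word of reflections given by numbers. -/
def finWord (D : ChevalleyDatum) (h : 0 < D.rank) (l : List ℕ) : List (Fin D.rank) :=
  l.map fun i => ⟨i % D.rank, Nat.mod_lt _ h⟩

theorem big_G2 : bigB chevG2 (finWord chevG2 (by decide +kernel) [0, 1]) [1, 1] 8 6 11 1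
    [(1, 6, 6), (0, 1, 1), (5, 0, 0), (2, 4, 4), (3, 2, 2), (7, 3, 3)] = true := by
  decide +kernel

theorem big_B2 : bigB chevB2 (finWord chevB2 (by decide +kernel) [0, 1]) [0, 1] 7 5 1 1
    [(6, 5, 5), (2, 6, 6), (0, 4, 4), (3, 0, 0)] = true := by
  decide +kernel

theorem big_D4 : bigB chevD4 (finWord chevD4 (by decide +kernel) [0, 1, 2, 3]) [0, 1, 0, 0] 20 18 1 1
    [(14, 18, 18), (22, 14, 14), (5, 22, 22), (9, 5, 5), (12, 16, 16), (3, 12, 12), (7, 3, 3), (11, 7, 7), (8, 18, 3), (10, 8, 8), (21, 10, 10), (15, 21, 21), (13, 15, 15)] = true := by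
  decide +kernel

theorem big_F4 : bigB chevF4 (finWord chevF4 (by decide +kernel) [0, 1, 2, 3]) [0, 0, 0, 1] 27 25 31 1
    [(24, 25, 25), (5, 24, 24), (17, 5, 5), (4, 17, 17), (16, 4, 4), (22, 16, 16), (23, 22, 22), (38, 35, 35), (28, 38, 38), (36, 28, 28), (14, 36, 36), (20, 14, 14), (12, 20, 20), (9, 12, 12), (19, 9, 9), (11, 19, 19), (33, 11, 11), (27, 33, 33)] = true := by
  decide +kernel

theorem big_E6 : bigB chevE6 (finWord chevE6 (by decide +kernel) [0, 1, 2, 3, 4, 5]) [0, 0, 1, 0, 0, 0] 36 39 52 2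
    [(37, 39, 39), (36, 37, 37), (23, 28, 28), (11, 23, 23), (56, 11, 11), (42, 56, 56), (29, 39, 28), (24, 29, 29), (12, 24, 24), (19, 12, 12), (32, 19, 19), (34, 32, 32), (35, 34, 34), (63, 35, 35), (43, 63, 63), (48, 43, 43), (60, 48, 48), (15, 60, 60), (25, 39, 24), (13, 25, 25), (20, 13, 13), (6, 20, 20), (27, 6, 6), (22, 27, 27), (46, 22, 22)] = true := by
  decide +kernel

theorem big_E7 : bigB chevE7 (finWord chevE7 (by decide +kernel) [0, 1, 2, 3, 4, 5, 6]) [0, 0, 1, 0, 0, 0, 0] 63 69 86 2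
    [(66, 69, 69), (64, 66, 66), (63, 64, 64), (45, 51, 51), (28, 45, 45), (39, 28, 28), (56, 39, 39), (59, 56, 56), (61, 59, 59), (62, 61, 61), (52, 69, 51), (46, 52, 52), (29, 46, 46), (40, 29, 29), (20, 40, 40), (50, 20, 20), (44, 50, 50), (27, 44, 44), (93, 27, 27), (73, 93, 93), (79, 73, 73), (96, 79, 79), (85, 96, 96), (105, 85, 85), (75, 105, 105), (81, 75, 75), (98, 81, 81), (32, 98, 98), (47, 69, 46), (30, 47, 47), (41, 30, 30), (21, 41, 41), (12, 21, 21), (37, 12, 12), (18, 37, 37), (49, 18, 18), (43, 49, 49), (78, 43, 43)] = true := by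
  decide +kernel

theorem big_E8 : bigB chevE8 (finWord chevE8 (by decide +kernel) [0, 1, 2, 3, 4, 5, 6, 7]) [0, 0, 1, 0, 0, 0, 0, 0] 120 130 151 2
    [(126, 130, 130), (123, 126, 126), (121, 123, 123), (120, 121, 121), (96, 103, 103), (73, 96, 96), (89, 73, 73), (62, 89, 89), (102, 62, 62), (95, 102, 102), (72, 95, 95), (88, 72, 72), (109, 88, 88), (113, 109, 109), (116, 113, 113), (118, 116, 116), (119, 118, 118), (104, 130, 103), (97, 104, 104), (74, 97, 97), (90, 74, 74), (63, 90, 90), (49, 63, 63), (86, 49, 49), (60, 86, 86), (47, 60, 60), (85, 47, 47), (59, 85, 85), (101, 59, 59), (94, 101, 101), (71, 94, 94), (162, 71, 71), (135, 162, 162), (142, 135, 135), (165, 142, 142), (149, 165, 165), (176, 149, 149), (190, 176, 176), (153, 190, 190), (179, 153, 153), (192, 179, 179), (154, 192, 192), (180, 154, 154), (138, 180, 180), (145, 138, 138), (168, 145, 145), (77, 168, 168), (67, 130, 63), (52, 67, 67), (87, 52, 52), (91, 130, 87), (64, 91, 91), (50, 64, 64), (31,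 50, 50), (44, 31, 31), (28, 44, 44), (42, 28, 28), (27, 42, 42), (41, 27, 27), (82, 41, 41), (57, 82, 82), (100, 57, 57), (93, 100, 100), (141, 93, 93), (164, 141, 141), (148, 164, 164), (175, 148, 148), (189, 175, 175), (208, 189, 189), (195, 208, 208), (211, 195, 195), (197, 211, 211), (212, 197, 197), (198, 212, 212), (157, 198, 198), (182, 157, 157), (139, 182, 182), (146, 139, 139), (98, 146, 146)] = true := by
  decide +kernel

theorem two_E6 : oneB chevE6 (finWord chevE6 (by decide +kernel) [0, 1, 2, 3, 4, 5]) 2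
    [(17, 2, 2), (31, 17, 17), (33, 31, 31), (62, 33, 33), (68, 62, 62), (53, 68, 68), (66, 53, 53), (29, 2, 66), (24, 29, 29), (12, 24, 24), (19, 12, 12), (32, 19, 19), (34, 32, 32), (35, 34, 34), (63, 35, 35), (43, 63, 63), (48, 43, 43), (60, 48, 48), (15, 60, 60), (20, 2, 60), (6, 20, 20), (27, 6, 6), (22, 27, 27), (46, 22, 22), (58, 46, 46), (51, 58, 58), (65, 51, 51), (44, 65, 65), (49, 44, 44), (25, 49, 49), (8, 2, 44), (28, 8, 8), (23, 28, 28), (11, 23, 23), (56, 11, 11), (42, 56, 56), (47, 42, 42), (59, 47, 47), (52, 59, 59), (39, 52, 52), (37, 39, 39), (36, 37, 37)] = true := by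
  decide +kernel

theorem two_E7 : oneB chevE7 (finWord chevE7 (by decide +kernel) [0, 1, 2, 3, 4, 5, 6]) 3
    [(8, 3, 3), (34, 8, 8), (54, 34, 34), (57, 54, 54), (100, 57, 57), (110, 100, 100), (120, 110, 110), (115, 120, 120), (122, 115, 115), (117, 122, 122), (91, 117, 117), (24, 3, 91), (14, 24, 24), (38, 14, 14), (19, 38, 38), (11, 19, 19), (36, 11, 11), (55, 36, 36), (58, 55, 55), (60, 58, 58), (101, 60, 60), (111, 101, 101), (87, 111, 111), (106, 87, 87), (39, 3, 106), (56, 39, 39), (59, 56, 56), (61, 59, 59), (62, 61, 61), (102, 62, 62), (74, 102, 102), (80, 74, 74), (97, 80, 80), (86, 97, 97), (69, 86, 86), (66, 69, 69), (64, 66, 66), (63, 64, 64), (4, 3, 66), (9, 4, 4), (35, 9, 9), (17, 35, 35), (48, 17, 17), (94, 48, 48), (83, 94, 94), (103, 83, 83), (112, 103, 103), (121, 112, 112), (116, 121, 121), (90, 116, 116), (108, 90, 90), (41, 3, 108), (21, 41, 41), (12, 21, 21), (37, 12, 12), (18, 37, 37), (49, 18, 18), (43, 49, 49), (78, 43, 43), (95, 78, 78), (84,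 95, 95), (104, 84, 84), (113, 104, 104), (88, 113, 113), (107, 88, 88), (76, 107, 107), (82, 76, 76), (47, 82, 82), (40, 3, 107), (20, 40, 40), (50, 20, 20), (44, 50, 50), (27, 44, 44), (93, 27, 27), (73, 93, 93), (79, 73, 73), (96, 79, 79), (85, 96, 96), (105, 85, 85), (75, 105, 105), (81, 75, 75), (98, 81, 81), (32, 98, 98), (52, 32, 32)] = true := by
  decide +kernel

theorem two_E8 : oneB chevE8 (finWord chevE8 (by decide +kernel) [0, 1, 2, 3, 4, 5, 6, 7]) 0
    [(15, 0, 0), (21, 15, 15), (36, 21, 21), (78, 36, 36), (105, 78, 78), (169, 105, 105), (184, 169, 169), (204, 184, 184), (226, 204, 204), (234, 226, 226), (235, 234, 234), (236, 235, 235), (237, 236, 236), (238, 237, 237), (239, 238, 238), (224, 239, 239), (218, 224, 224), (203, 218, 218), (161, 203, 203), (12, 0, 161), (20, 12, 12), (6, 20, 20), (7, 6, 6), (14, 7, 7), (8, 14, 14), (16, 8, 8), (22, 16, 16), (37, 22, 22), (79, 37, 37), (106, 79, 79), (110, 106, 106), (170, 110, 110), (185, 170, 170), (205, 185,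 185), (227, 205, 205), (219, 227, 227), (233, 219, 219), (232, 233, 233), (225, 232, 232), (231, 225, 225), (223, 231, 231), (217, 223, 223), (202, 217, 217), (160, 202, 202), (11, 0, 160), (19, 11, 11), (25, 19, 19), (9, 25, 25), (17, 9, 9), (23, 17, 17), (38, 23, 23), (80, 38, 38), (56, 80, 80), (99, 56, 56), (163, 99, 99), (147, 163, 163), (174, 147, 147), (188, 174, 174), (207, 188, 188), (228, 207, 207), (220, 228, 228), (214, 220, 220), (230, 214, 214), (222, 230, 230), (216, 222, 222), (201, 216, 216), (30, 0, 201), (43, 30, 30), (83, 43, 43), (58, 83, 83), (46, 58, 58), (84, 46, 46), (108, 84, 84), (112, 108, 108), (115, 112, 112), (117, 115, 115), (172, 117, 117), (187, 172, 172), (152, 187, 187), (178, 152, 152), (191, 178, 178), (209, 191, 191), (196, 209, 209), (156, 196, 196), (181, 156, 156), (193, 181, 181), (24, 0, 193), (39, 24, 24), (26, 39, 39), (40, 26, 26), (81, 40, 40), (107, 81, 81), (111, 107, 107), (114, 111, 111), (171, 114, 114), (186, 171, 171),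 (206, 186, 186), (194, 206, 206), (210, 194, 194), (229, 210, 210), (221, 229, 229), (215, 221, 221), (200, 215, 215), (213, 200, 200), (199, 213, 213), (28, 0, 199), (42, 28, 28), (27, 42, 42), (41, 27, 27), (82, 41, 41), (57, 82, 82), (100, 57, 57), (93, 100, 100), (141, 93, 93), (164, 141, 141), (148, 164, 164), (175, 148, 148), (189, 175, 175), (208, 189, 189), (195, 208, 208), (211, 195, 195), (197, 211, 211), (212, 197, 197), (198, 212, 212), (157, 198, 198), (182, 157, 157), (139, 182, 182), (146, 139, 139), (98, 146, 146), (47, 0, 216), (85, 47, 47), (59, 85, 85), (101, 59, 59), (94, 101, 101), (71, 94, 94), (162, 71, 71), (135, 162, 162), (142, 135, 135), (165, 142, 142), (149, 165, 165), (176, 149, 149), (190, 176, 176), (153, 190, 190), (179, 153, 153), (192, 179, 179), (154, 192, 192), (180, 154, 154), (138, 180, 180), (145, 138, 138), (168, 145, 145), (77, 168, 168), (104, 77, 77), (62, 0, 223), (102, 62, 62), (95, 102, 102), (72, 95, 95), (88, 72, 72), (109,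 88, 88), (113, 109, 109), (116, 113, 113), (118, 116, 116), (119, 118, 118), (173, 119, 119), (136, 173, 173), (143, 136, 136), (166, 143, 143), (150, 166, 166), (177, 150, 150), (137, 177, 177), (144, 137, 137), (167, 144, 144), (151, 167, 167), (130, 151, 151), (126, 130, 130), (123, 126, 126), (121, 123, 123), (120, 121, 121)] = true := by
  decide +kernel

theorem two_F4 : pairB chevF4 (finWord chevF4 (by decide +kernel) [0, 1, 2, 3]) 24 29 5 13 6
    [(2, 6, 6), (1, 2, 2), (0, 1, 1), (15, 0, 0), (21, 15, 15), (4, 6, 21), (16, 4, 4), (22, 16, 16), (23, 22, 22), (42, 23, 23), (30, 42, 42), (43, 30, 30), (31, 43, 43), (25, 31, 31), (24, 25, 25)]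
    [(5, 24, 24), (17, 5, 5), (4, 17, 17), (16, 4, 4), (22, 16, 16), (23, 22, 22), (42, 23, 23), (30, 42, 42), (43, 30, 30), (31, 43, 43), (25, 31, 31), (13, 29, 29), (10, 13, 13), (3, 10, 10), (7, 3, 3), (8, 7, 7), (12, 29, 8), (9, 12, 12), (19, 9, 9), (11, 19, 19), (33, 11, 11), (27, 33, 33), (35, 27, 27), (38, 35, 35), (28, 38, 38), (36, 28, 28), (14, 36, 36), (20, 14, 14)] = true := by
  decide +kernel

theorem two_D4 : tripleB chevD4 (finWord chevD4 (by decide +kernel) [0, 1, 2, 3]) 1 15 0 2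
    [(18, 1, 1), (14, 18, 18), (22, 14, 14), (5, 22, 22), (9, 5, 5), (0, 1, 9)]
    [(18, 1, 1), (14, 18, 18), (22, 14, 14), (5, 22, 22), (9, 5, 5), (8, 2, 2), (10, 8, 8), (21, 10, 10), (15, 21, 21), (13, 15, 15), (3, 1, 13), (7, 3, 3), (11, 7, 7), (20, 11, 11), (16, 20, 20), (12, 16, 16)] = true := by
  decide +kernel

end CfsgLib.Chev.TwoGen
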