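/-
The tabulated exceptional Chevalley groups are generated by two elements.
-/
import Cfsg.Agent.Lib.Chev.TwoGen.SplitData

set_option autoImplicit false
set_option maxRecDepth 50000

namespace CfsgLib.Chev.TwoGen

open Cfsg.Lie

universe v

/-- The tabulated exceptional Chevalley groups are generated by two elements. -/
theorem split_two_generated {F : Type v} [Field F] [Finite F] (D : ChevalleyDatum)
    (hD : D ∈ [chevG2, chevB2, chevD4, chevF4, chevE6, chevE7, chevE8])
    (hF : D ∈ [chevB2, chevG2] → ∃ x : F, x ≠ 0 ∧ x ≠ 1) :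
    ∃ a b : ↥(D.group F), Subgroup.closure ({a, b} : Set ↥(D.group F)) = ⊤ := by
  classical
  have : Fintype F := Fintype.ofFinite F
  obtain ⟨⟨co, hco⟩, hC⟩ := good_of_mem.{v} hD
  simp only [List.mem_cons, List.not_mem_nil, or_false] at hD
  rcases Nat.lt_or_ge (Fintype.card F) 3 with hq | hq
  · have h2 : Fintype.card F = 2 := by
      have : 1 < Fintype.card F := Fintype.one_lt_card
      omega
    have hno : ∀ x : F, x ≠ 0 → x = 1 := fun x hx => eq_one_two h2 hx
    rcases hD with rfl | rfl | rfl | rfl | rfl | rfl | rfl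
    · obtain ⟨x, h0, h1⟩ := hF (by simp); exact absurd (hno x h0) h1
    · obtain ⟨x, h0, h1⟩ := hF (by simp); exact absurd (hno x h0) h1
    · exact two_gen_triple hco hC h2 two_D4
    · exact two_gen_pair hco hC h2 two_F4
    · exact two_gen_one hco hC h2 two_E6
    · exact two_gen_one hco hC h2 two_E7
    · exact two_gen_one hco hC h2 two_E8
  · rcases hD with rfl | rfl | rfl | rfl | rfl | rfl | rfl
    · exact two_gen_big hco hC big_G2 hq
    · exact two_gen_big hco hC big_B2 hq
    · exact two_gen_big hco hC big_D4 hq
    · exact two_gen_big hco hC big_F4 hq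
    · exact two_gen_big hco hC big_E6 hq
    · exact two_gen_big hco hC big_E7 hq
    · exact two_gen_big hco hC big_E8 hq

end CfsgLib.Chev.TwoGen
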